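import Groth.Agent.LimModLib.FlatDescent
import Groth.Agent.H28.ClosedSub
import Groth.Agent.ConsPropLib.FibreLocFree
import Groth.Agent.QCoh.LocFree
import Mathlib.RingTheory.TensorProduct.Maps
import Mathlib.Algebra.Module.Projective

/-!
# The closed subscheme where a map into a locally free module vanishes
-/

set_option autoImplicit false
set_option linter.style.haveILetI false
set_option backward.isDefEq.respectTransparency false
set_option backward.isDefEq.respectTransparency.types false

universe u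

open CategoryTheory CategoryTheory.Limits AlgebraicGeometry
open scoped TensorProduct

namespace Groth.Agent.VanishId

/-- The ideal of coordinates of the image of a linear map. -/
def coordIdeal {A M N : Type u} [CommRing A] [AddCommGroup M] [Module A M] [AddCommGroup N] [Module A N]
    (l : M →ₗ[A] N) : Ideal A :=
  Ideal.span (Set.range fun p : Module.Dual A N × M => p.1 (l p.2))

theorem baseChange_eq_zero_iff {A B M N : Type u} [CommRing A] [CommRing B] [Algebra A B] [AddCommGroup M] [Module A M]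
    [AddCommGroup N] [Module A N] [Module.Projective A N] (l : M →ₗ[A] N) :
    l.baseChange B = 0 ↔ coordIdeal l ≤ RingHom.ker (algebraMap A B) := by
  constructor
  · intro h
    refine Ideal.span_le.2 ?_
    rintro _ ⟨⟨φ, m⟩, rfl⟩
    have h1 := congrArg (TensorProduct.rid A B ∘ φ.lTensor B) (LinearMap.congr_fun h ((1 : B) ⊗ₜ[A] m))
    simp only [Function.comp_apply, LinearMap.baseChange_tmul, LinearMap.lTensor_tmul, TensorProduct.rid_tmul,
      LinearMap.zero_apply, map_zero] at h1
    rw [SetLike.mem_coe, RingHom.mem_ker, Algebra.algebraMap_eq_smul_one]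
    exact h1
  · intro h
    have key : ∀ m, (1 : B) ⊗ₜ[A] l m = 0 := fun m => by
      obtain ⟨s, hs⟩ := Module.projective_def'.1 (inferInstance : Module.Projective A N)
      conv_lhs => rw [← LinearMap.id_apply (R := A) (l m), ← hs, LinearMap.comp_apply,
        Finsupp.linearCombination_apply]
      rw [Finsupp.sum, TensorProduct.tmul_sum]
      refine Finset.sum_eq_zero fun x _ => ?_
      have hx : algebraMap A B (s (l m) x) = 0 :=
        h (Ideal.subset_span ⟨((Finsupp.lapply x).comp s, m), rfl⟩)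
      rw [TensorProduct.tmul_smul, TensorProduct.smul_tmul', ← Algebra.algebraMap_eq_smul_one, hx,
        TensorProduct.zero_tmul]
    refine LinearMap.ext fun z => ?_
    induction z using TensorProduct.induction_on with
    | zero => rw [map_zero, LinearMap.zero_apply]
    | add x y hx hy => rw [map_add, hx, hy, LinearMap.zero_apply, LinearMap.zero_apply, LinearMap.zero_apply, add_zero]
    | tmul b m =>
      rw [LinearMap.baseChange_tmul, ← mul_one b, ← smul_eq_mul, ← TensorProduct.smul_tmul', key, smul_zero,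
        LinearMap.zero_apply]

variable {S : Scheme.{u}} {E F : S.Modules}

theorem nonempty_arrowIso_point (hE : Coh.IsQCoh E) (hF : Coh.IsQCoh F) (v : E ⟶ F) (U : S.affineOpens)
    {R : CommRingCat.{u}} (q : Γ(S, U.1) ⟶ R) :
    Nonempty (Arrow.mk ((Scheme.Modules.pullback (Spec.map q ≫ U.2.fromSpec)).map v) ≅
      Arrow.mk (tilde.map ((ModuleCat.extendScalars.{_, _, u} q.hom).map ((LimModLib.chartΓ U.2).map v)))) := by
  let i := U.2.fromSpec
  obtain ⟨e⟩ := LimModLib.nonempty_arrowIso_chart U.2 hE hF v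
  let K : Scheme.Modules.pullback (Spec.map q ≫ i) ≅
      Scheme.Modules.restrictFunctor i ⋙ Scheme.Modules.pullback (Spec.map q) :=
    (Scheme.Modules.pullbackComp (Spec.map q) i).symm ≪≫
      Functor.isoWhiskerRight (Scheme.Modules.restrictFunctorIsoPullback i).symm _
  let G := ModuleCat.extendScalars.{_, _, u} q.hom
  let e₁ : Arrow.mk ((Scheme.Modules.pullback (Spec.map q ≫ i)).map v) ≅
      Arrow.mk ((Scheme.Modules.restrictFunctor i ⋙ Scheme.Modules.pullback (Spec.map q)).map v) :=
    Arrow.isoMk (K.app E) (K.app F) (K.hom.naturality v).symm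
  let e₂ : Arrow.mk ((Scheme.Modules.pullback (Spec.map q)).map ((Scheme.Modules.restrictFunctor i).map v)) ≅
      Arrow.mk ((Scheme.Modules.pullback (Spec.map q)).map (tilde.map ((LimModLib.chartΓ U.2).map v))) :=
    (Scheme.Modules.pullback (Spec.map q)).mapArrow.mapIso e
  let e₃ : Arrow.mk ((tilde.functor Γ(S, U.1) ⋙ Scheme.Modules.pullback (Spec.map q)).map
        ((LimModLib.chartΓ U.2).map v)) ≅
      Arrow.mk ((G ⋙ tilde.functor R).map ((LimModLib.chartΓ U.2).map v)) :=
    Arrow.isoMk ((QCoh.tildePullbackIso q).app _) ((QCoh.tildePullbackIso q).app _)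
      ((QCoh.tildePullbackIso q).hom.naturality _).symm
  exact ⟨e₁ ≪≫ e₂ ≪≫ e₃⟩

theorem projective_chartΓ (hF : FlatMod.IsFinLocFree F) (U : S.affineOpens) :
    Module.Projective Γ(S, U.1) ((LimModLib.chartΓ U.2).obj F) := by
  have hq := QCoh.isQCoh_of_isFinLocFree hF
  haveI : IsIso (F.restrict U.2.fromSpec).fromTildeΓ :=
    (isQuasicoherent_iff_isIso_fromTildeΓ _).1 (QCoh.isQCoh_restrict _ hq)
  exact ((QCoh.isFinLocFree_tilde_iff _).1
    ((ConsPropLib.isFinLocFree_iso (asIso (F.restrict U.2.fromSpec).fromTildeΓ)).2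
      (ConsPropLib.isFinLocFree_restrict U.2.fromSpec hF))).2

theorem eq_zero_iff_coordIdeal (hE : Coh.IsQCoh E) (hF : FlatMod.IsFinLocFree F) (v : E ⟶ F) (U : S.affineOpens)
    {R : CommRingCat.{u}} (q : Γ(S, U.1) ⟶ R) :
    (Scheme.Modules.pullback (Spec.map q ≫ U.2.fromSpec)).map v = 0 ↔
      coordIdeal ((LimModLib.chartΓ U.2).map v).hom ≤ RingHom.ker q.hom := by
  obtain ⟨e⟩ := nonempty_arrowIso_point hE (QCoh.isQCoh_of_isFinLocFree hF) v U q
  rw [LimModLib.eq_zero_iff_of_arrowIso _ _ e, LimModLib.tilde_extend_eq_zero_iff]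
  haveI := projective_chartΓ hF U
  letI := q.hom.toAlgebra
  exact baseChange_eq_zero_iff _

theorem pullback_map_eq_zero_comp {T T' : Scheme.{u}} (w : T' ⟶ T) (x : T ⟶ S) (v : E ⟶ F)
    (h : (Scheme.Modules.pullback x).map v = 0) : (Scheme.Modules.pullback (w ≫ x)).map v = 0 := by
  refine (NatIso.naturality_1 (Scheme.Modules.pullbackComp w x) v).symm.trans ?_
  rw [Functor.comp_map, h, Functor.map_zero, zero_comp, comp_zero]

theorem pullback_map_eq_zero_cover (hE : Coh.IsQCoh E) (hF : Coh.IsQCoh F) (v : E ⟶ F) {T : Scheme.{u}} (x : T ⟶ S)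
    (𝒱 : Scheme.OpenCover.{u} T) (h : ∀ i, (Scheme.Modules.pullback (𝒱.f i ≫ x)).map v = 0) :
    (Scheme.Modules.pullback x).map v = 0 := by
  refine LimModLib.eq_zero_of_flat_cover (fun i => 𝒱.f i) (fun t => ⟨_, 𝒱.covers t⟩)
    (QCoh.isQCoh_pullback x hE) (QCoh.isQCoh_pullback x hF) _ fun i => ?_
  refine (NatIso.naturality_2 (Scheme.Modules.pullbackComp (𝒱.f i) x) v).symm.trans ?_
  rw [h i, zero_comp, comp_zero]

theorem exists_ideal (hE : Coh.IsQCoh E) (hF : FlatMod.IsFinLocFree F) (v : E ⟶ F) :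
    ∃ I : S.IdealSheafData, ∀ (T : Scheme.{u}) (f : T ⟶ S),
      (∃ g : T ⟶ I.subscheme, g ≫ I.subschemeι = f) ↔ (Scheme.Modules.pullback f).map v = 0 := by
  obtain ⟨Z, i, hi, hZ⟩ := H28.ClosedSub.exists_closed
    (fun {T} (f : T ⟶ S) => (Scheme.Modules.pullback f).map v = 0)
    (fun w x h => pullback_map_eq_zero_comp w x v h)
    (fun x 𝒱 h => pullback_map_eq_zero_cover hE (QCoh.isQCoh_of_isFinLocFree hF) v x 𝒱 h)
    (fun U => ⟨_, fun R q => eq_zero_iff_coordIdeal hE hF v U q⟩)
  refine ⟨i.ker, fun T f => ?_⟩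
  rw [hZ f]
  constructor
  · rintro ⟨g, rfl⟩
    exact ⟨g ≫ inv i.toImage, by
      rw [Category.assoc]
      exact congrArg (g ≫ ·) ((IsIso.inv_comp_eq i.toImage).2 i.toImage_imageι.symm)⟩
  · rintro ⟨z, rfl⟩
    exact ⟨z ≫ i.toImage, by rw [Category.assoc]; exact congrArg _ i.toImage_imageι⟩

end Groth.Agent.VanishId
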